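import Groth.Prelude.Def_W4c5quivmodgenus0Quiv
import Mathlib.LinearAlgebra.FiniteDimensional.Lemmas
import Mathlib.LinearAlgebra.LinearIndependent.Lemmas
import Mathlib.Algebra.Order.BigOperators.Group.Finset
import Mathlib.Tactic.Linarith
import Mathlib.Tactic.FieldSimp
import Mathlib.Tactic.FinCases

/-!
Representations of the bipartite quivers of pointed genus zero curves: (semi)stability.
-/

set_option autoImplicit false

universe u v

open PtQuiv

namespace Groth.Agent.PtQuivLib

variable {K : Type u} [Field K]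

theorem finrank_le_two (L : Submodule K (Fin 2 → K)) : Module.finrank K L ≤ 2 :=
  (Submodule.finrank_le L).trans (Module.finrank_fin_fun K).le

theorem eq_top_of_two (L : Submodule K (Fin 2 → K)) (h : Module.finrank K L = 2) : L = ⊤ :=
  Submodule.eq_top_of_finrank_eq (h.trans (Module.finrank_fin_fun K).symm)

theorem finrank_top_two : Module.finrank K (⊤ : Submodule K (Fin 2 → K)) = 2 := by
  rw [finrank_top]
  exact Module.finrank_fin_fun K

theorem eq_span_of_one (L : Submodule K (Fin 2 → K)) (h : Module.finrank K L = 1) :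
    ∀ v ∈ L, v ≠ 0 → L = K ∙ v := fun v hv hv0 =>
  (Submodule.eq_of_le_of_finrank_eq ((Submodule.span_singleton_le_iff_mem v L).2 hv)
    (by rw [h, finrank_span_singleton hv0])).symm

theorem finrank_span_le_one (v : Fin 2 → K) : Module.finrank K (K ∙ v) ≤ 1 := by
  rcases eq_or_ne v 0 with rfl | hv
  · rw [Submodule.span_zero_singleton, finrank_bot]; exact Nat.zero_le 1
  · rw [finrank_span_singleton hv]

theorem indep_of_not_mem {v w : Fin 2 → K} (hw : w ≠ 0) (h : v ∉ K ∙ w) : LinearIndependent K ![v, w] := by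
  rw [LinearIndependent.pair_iff]
  intro c d hcd
  by_cases hc : c = 0
  · subst hc
    rw [zero_smul, zero_add, smul_eq_zero] at hcd
    exact ⟨rfl, hcd.resolve_right hw⟩
  · refine absurd (Submodule.mem_span_singleton.2 ⟨-(c⁻¹ * d), ?_⟩) h
    have := congrArg (c⁻¹ • ·) hcd
    simp only [smul_add, smul_smul, inv_mul_cancel₀ hc, one_smul, smul_zero] at this
    rw [neg_smul, neg_eq_iff_add_eq_zero, add_comm]
    exact this

variable {ι : Type v} [Fintype ι] {θ : ι → ℚ} {s : ι → (Fin 2 → K)}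

theorem sum_le_one_of_semistable (h : QSemistable (-1) θ s) (L : Submodule K (Fin 2 → K))
    (hL : Module.finrank K L ≤ 1) (J : Finset ι) (hJ : ∀ i ∈ J, s i ∈ L) : ∑ i ∈ J, θ i ≤ 1 := by
  have h1 := h.2 L J hJ
  rw [QWt] at h1
  have h2 : (Module.finrank K L : ℚ) ≤ 1 := by exact_mod_cast hL
  linarith

theorem qSemistable_iff (hs : ∀ i, s i ≠ 0) (h0 : ∀ i, 0 ≤ θ i) (h2 : ∑ i, θ i = 2) :
    QSemistable (-1) θ s ↔ ∀ (J : Finset ι) (v : Fin 2 → K), (∀ i ∈ J, s i ∈ K ∙ v) → ∑ i ∈ J, θ i ≤ 1 := by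
  refine ⟨fun h J v hJ => sum_le_one_of_semistable h _ (finrank_span_le_one v) J hJ,
    fun h => ⟨by rw [h2]; norm_num, fun L I hI => ?_⟩⟩
  rw [QWt]
  have hle := finrank_le_two L
  interval_cases hn : Module.finrank K L
  · have hbot : L = ⊥ := Submodule.finrank_eq_zero.1 hn
    have hI0 : I = ∅ := Finset.eq_empty_of_forall_notMem fun i hi => hs i (by
      have := hI i hi
      rwa [hbot, Submodule.mem_bot] at this)
    simp [hI0]
  · obtain ⟨v, hv, hv0⟩ := Submodule.exists_mem_ne_zero_of_ne_bot (fun hb : L = ⊥ => by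
      rw [hb, finrank_bot] at hn; exact zero_ne_one hn)
    have := h I v fun i hi => eq_span_of_one L hn v hv hv0 ▸ hI i hi
    push_cast
    linarith
  · have : ∑ i ∈ I, θ i ≤ ∑ i, θ i := Finset.sum_le_univ_sum_of_nonneg h0
    push_cast
    linarith

theorem pos_of_stable (h0 : ∀ i, 0 ≤ θ i) (h2 : ∑ i, θ i = 2) (h : QStable (-1) θ s) (i : ι) : 0 < θ i := by
  classical
  refine (h0 i).lt_of_ne fun hi => ?_
  have hwt : QWt K (-1) θ ⊤ (Finset.univ.erase i) = 0 := by
    rw [QWt, finrank_top_two, Finset.sum_erase _ hi.symm, h2]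
    norm_num
  rcases h.2 ⊤ _ (fun _ _ => Submodule.mem_top) hwt with h' | h'
  · have h3 := finrank_top_two (K := K)
    rw [h'.1, finrank_bot] at h3
    omega
  · exact Finset.notMem_erase i _ (h'.2.symm ▸ Finset.mem_univ i)

theorem sum_lt_one_of_stable (h0 : ∀ i, 0 ≤ θ i) (h : QStable (-1) θ s) (v : Fin 2 → K) (hv : v ≠ 0)
    (J : Finset ι) (hJ : ∀ i ∈ J, s i ∈ K ∙ v) : ∑ i ∈ J, θ i < 1 := by
  refine (sum_le_one_of_semistable h.1 _ (finrank_span_le_one v) J hJ).lt_of_ne fun heq => ?_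
  have hwt : QWt K (-1) θ (K ∙ v) J = 0 := by
    rw [QWt, finrank_span_singleton hv, heq]
    norm_num
  rcases h.2 _ J hJ hwt with h' | h'
  · exact hv (by simpa using h'.1)
  · have h3 := finrank_top_two (K := K)
    rw [← h'.1, finrank_span_singleton hv] at h3
    omega

theorem exists_three_of_stable (hs : ∀ i, s i ≠ 0) (h0 : ∀ i, 0 ≤ θ i) (h2 : ∑ i, θ i = 2)
    (h : QStable (-1) θ s) : ∃ i j k : ι, s i ∉ K ∙ s j ∧ s j ∉ K ∙ s k ∧ s i ∉ K ∙ s k := by
  classical
  by_contra hno
  push Not at hno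
  have hne : (Finset.univ : Finset ι).Nonempty := by
    by_contra hne
    rw [Finset.not_nonempty_iff_eq_empty] at hne
    rw [hne, Finset.sum_empty] at h2
    norm_num at h2
  obtain ⟨i₀, -⟩ := hne
  let J : Finset ι := Finset.univ.filter fun i => s i ∈ K ∙ s i₀
  have hJ := sum_lt_one_of_stable h0 h (s i₀) (hs i₀) J fun i hi => (Finset.mem_filter.1 hi).2
  by_cases hall : ∀ i, i ∈ J
  · rw [Finset.eq_univ_of_forall hall, h2] at hJ
    norm_num at hJ
  push Not at hall
  obtain ⟨j₀, hj₀⟩ := hall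
  have hj₀' : s j₀ ∉ K ∙ s i₀ := fun h => hj₀ (Finset.mem_filter.2 ⟨Finset.mem_univ _, h⟩)
  have hJ' := sum_lt_one_of_stable h0 h (s j₀) (hs j₀) Jᶜ fun i hi => by
    by_contra hij
    have hi' : s i ∉ K ∙ s i₀ := fun h =>
      Finset.mem_compl.1 hi (Finset.mem_filter.2 ⟨Finset.mem_univ _, h⟩)
    exact hi' (hno i j₀ i₀ hij hj₀')
  have := Finset.sum_add_sum_compl J θ
  linarith

theorem exists_stable_of_three (hs : ∀ i, s i ≠ 0)
    (h : ∃ i j k : ι, s i ∉ K ∙ s j ∧ s j ∉ K ∙ s k ∧ s i ∉ K ∙ s k) :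
    ∃ θ : ι → ℚ, (∀ i, 0 ≤ θ i) ∧ (∀ i, θ i ≤ 1) ∧ ∑ i, θ i = 2 ∧ QStable (-1) θ s := by
  classical
  obtain ⟨a, b, c, hab, hbc, hac⟩ := h
  have hab' : a ≠ b := fun e => hab (e ▸ Submodule.mem_span_singleton_self _)
  have hbc' : b ≠ c := fun e => hbc (e ▸ Submodule.mem_span_singleton_self _)
  have hac' : a ≠ c := fun e => hac (e ▸ Submodule.mem_span_singleton_self _)
  let T : Finset ι := {a, b, c}
  have hT : T.card = 3 := Finset.card_eq_three.2 ⟨a, b, c, hab', hac', hbc', rfl⟩
  let m : ℚ := (Tᶜ.card : ℚ)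
  have hm : 0 ≤ m := Nat.cast_nonneg _
  let δ : ℚ := 1 / (4 * (m + 1))
  have hδ : 0 < δ := div_pos one_pos (by linarith)
  have hmδ : m * δ < 1 / 2 := by
    simp only [δ]
    rw [mul_one_div, div_lt_iff₀ (by linarith)]
    linarith
  let e : ℚ := (2 - m * δ) / 3
  have he : 0 < e := by simp only [e]; linarith
  let θ' : ι → ℚ := fun i => if i ∈ T then e else δ
  have hpos : ∀ i, 0 < θ' i := fun i => by
    simp only [θ']
    split_ifs <;> assumption
  have hTsum : ∑ i ∈ T, θ' i = 3 * e := by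
    rw [Finset.sum_congr rfl fun i hi => if_pos hi, Finset.sum_const, hT, nsmul_eq_mul]
    norm_num
  have hCsum : ∑ i ∈ Tᶜ, θ' i = m * δ := by
    rw [Finset.sum_congr rfl fun i hi => if_neg (Finset.mem_compl.1 hi), Finset.sum_const, nsmul_eq_mul]
  have hsum : ∑ i, θ' i = 2 := by
    rw [← Finset.sum_add_sum_compl T, hTsum, hCsum]
    simp only [e]
    ring
  have hle : ∀ i, θ' i ≤ 1 := fun i => by
    simp only [θ']
    split_ifs
    · simp only [e]
      have : 0 ≤ m * δ := by positivity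
      linarith
    · simp only [δ]
      rw [div_le_iff₀ (by linarith)]
      linarith
  have hpair : ∀ p q, p ∈ T → q ∈ T → s p ∈ K ∙ s q → s q ∈ K ∙ s p → p = q := by
    intro p q hp hq h1 h2
    simp only [T, Finset.mem_insert, Finset.mem_singleton] at hp hq
    rcases hp with e | e | e <;> rcases hq with e' | e' | e' <;> rw [e, e'] at h1 h2 ⊢
    · exact absurd h1 hab
    · exact absurd h1 hac
    · exact absurd h2 hab
    · exact absurd h1 hbc
    · exact absurd h2 hac
    · exact absurd h2 hbc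
  have hline : ∀ (v : Fin 2 → K) (J : Finset ι), (∀ i ∈ J, s i ∈ K ∙ v) → ∑ i ∈ J, θ' i < 1 := by
    intro v J hJ
    have hone : (J ∩ T).card ≤ 1 := by
      rw [Finset.card_le_one]
      intro x hx y hy
      rw [Finset.mem_inter] at hx hy
      have hvne : v ≠ 0 := fun hv => hs x (by simpa [hv] using hJ x hx.1)
      have hsp : ∀ {p q : ι}, p ∈ J → q ∈ J → s p ∈ K ∙ s q := fun {p q} hp hq => by
        have hq' : (K ∙ v) = K ∙ s q :=
          eq_span_of_one (K ∙ v) (finrank_span_singleton hvne) (s q) (hJ q hq) (hs q)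
        exact hq' ▸ hJ p hp
      exact hpair x y hx.2 hy.2 (hsp hx.1 hy.1) (hsp hy.1 hx.1)
    have h1 : ∑ i ∈ J ∩ T, θ' i ≤ e := by
      rw [Finset.sum_congr rfl fun i hi => if_pos (Finset.mem_inter.1 hi).2, Finset.sum_const, nsmul_eq_mul]
      have : ((J ∩ T).card : ℚ) ≤ 1 := by exact_mod_cast hone
      exact (mul_le_mul_of_nonneg_right this he.le).trans_eq (one_mul e)
    have h2 : ∑ i ∈ J \ T, θ' i ≤ m * δ := by
      rw [← hCsum]
      exact Finset.sum_le_sum_of_subset_of_nonneg (fun i hi => Finset.mem_compl.2 (Finset.mem_sdiff.1 hi).2)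
        fun i _ _ => (hpos i).le
    rw [← Finset.sum_inter_add_sum_sdiff J T]
    simp only [e] at h1
    linarith
  refine ⟨θ', fun i => (hpos i).le, hle, hsum,
    (qSemistable_iff hs (fun i => (hpos i).le) hsum).2 fun J v hJ => (hline v J hJ).le, fun L I hI hwt => ?_⟩
  rw [QWt] at hwt
  have hle2 := finrank_le_two L
  interval_cases hn : Module.finrank K L
  · have hbot : L = ⊥ := Submodule.finrank_eq_zero.1 hn
    exact Or.inl ⟨hbot, Finset.eq_empty_of_forall_notMem fun i hi => hs i (by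
      have := hI i hi
      rwa [hbot, Submodule.mem_bot] at this)⟩
  · obtain ⟨v, hv, hv0⟩ := Submodule.exists_mem_ne_zero_of_ne_bot (fun hb : L = ⊥ => by
      rw [hb, finrank_bot] at hn; exact zero_ne_one hn)
    have := hline v I fun i hi => eq_span_of_one L hn v hv hv0 ▸ hI i hi
    push_cast at hwt
    linarith
  · refine Or.inr ⟨eq_top_of_two L hn, Finset.eq_univ_of_forall fun i => ?_⟩
    by_contra hi
    have := Finset.sum_lt_sum_of_subset (f := θ') (Finset.subset_univ I) (Finset.mem_univ i) hi (hpos i)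
      fun j _ _ => (hpos j).le
    push_cast at hwt
    linarith

section Slice

variable {κ : Type v} [Fintype κ] [DecidableEq κ] {a b : κ} {s : κ → (Fin 2 → K)} {θ : κ → ℚ}

/-- The index set away from `a, b`. -/
abbrev Away (a b : κ) : Type v := {i : κ // i ≠ a ∧ i ≠ b}

theorem indep_of_semistable (hθ : 1 < θ a + θ b) (hab : a ≠ b) (h : QSemistable (-1) θ s) :
    LinearIndependent K ![s a, s b] := by
  have key : ∀ v, s a ∈ K ∙ v → s b ∈ K ∙ v → False := fun v ha hb => by
    have h3 := sum_le_one_of_semistable h (K ∙ v) (finrank_span_le_one v) {a, b} fun i hi => by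
      rcases Finset.mem_insert.1 hi with rfl | hi
      · exact ha
      · rwa [Finset.mem_singleton.1 hi]
    rw [Finset.sum_pair hab] at h3
    linarith
  refine indep_of_not_mem (fun hb0 => ?_) fun ha => key (s b) ha (Submodule.mem_span_singleton_self _)
  exact key (s a) (Submodule.mem_span_singleton_self _) (by rw [hb0]; exact zero_mem _)

/-- The subspace of the plane attached to a pair of subspaces of the line. -/
theorem exists_sub (hab : a ≠ b) (hli : LinearIndependent K ![s a, s b])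
    (t : Away a b → (Fin 2 → K)) (ht : ∀ i : Away a b, s i.1 = t i 0 • s a + t i 1 • s b)
    (U : Fin 2 → Submodule K K) (I : Finset (Away a b)) (hI : PSubrep t U I) :
    ∃ (L : Submodule K (Fin 2 → K)) (J : Finset κ), QSubrep s L J ∧
      QWt K (-1) θ L J = (θ a - 1) * (Module.finrank K (U 0) : ℚ) + (θ b - 1) * (Module.finrank K (U 1) : ℚ) +
        ∑ i ∈ I, θ i.1 ∧ (L = ⊥ → J = ∅ → U = ⊥ ∧ I = ∅) ∧ (J = Finset.univ → U = ⊤ ∧ I = Finset.univ) := by
  classical
  have hcases : ∀ j, U j = ⊥ ∨ U j = ⊤ := fun j => Ideal.eq_bot_or_top (U j)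
  have hsa : s a ≠ 0 := by simpa using hli.ne_zero 0
  have hsb : s b ≠ 0 := by simpa using hli.ne_zero 1
  let I' : Finset κ := I.map (Function.Embedding.subtype _)
  have hI' : ∑ i ∈ I', θ i = ∑ i ∈ I, θ i.1 := Finset.sum_map _ _ _
  have haI : a ∉ I' := fun h => by
    obtain ⟨⟨i, hi⟩, -, hie⟩ := Finset.mem_map.1 h
    exact hi.1 hie
  have hbI : b ∉ I' := fun h => by
    obtain ⟨⟨i, hi⟩, -, hie⟩ := Finset.mem_map.1 h
    exact hi.2 hie
  have hmem : ∀ {L : Submodule K (Fin 2 → K)}, (∀ i ∈ I, t i 0 • s a + t i 1 • s b ∈ L) → ∀ i ∈ I', s i ∈ L :=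
    fun hL i hi => by
      obtain ⟨x, hx, rfl⟩ := Finset.mem_map.1 hi
      change s x.1 ∈ _
      rw [ht x]
      exact hL x hx
  have huniv : ∀ {J : Finset κ}, J ⊆ insert a (insert b I') → J = Finset.univ → I = Finset.univ := fun hJ h =>
    Finset.eq_univ_of_forall fun i => by
      have h1 := hJ (h.symm ▸ Finset.mem_univ i.1)
      rw [Finset.mem_insert, Finset.mem_insert] at h1
      obtain ⟨x, hx, hxi⟩ := Finset.mem_map.1 ((h1.resolve_left i.2.1).resolve_left i.2.2)
      obtain rfl : x = i := Subtype.ext hxi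
      exact hx
  rcases hcases 0 with hU0 | hU0 <;> rcases hcases 1 with hU1 | hU1
  · refine ⟨⊥, I', hmem fun i hi => ?_, ?_, fun _ hJ => ⟨funext fun j => ?_, Finset.map_eq_empty.1 hJ⟩,
      fun hJ => absurd (hJ ▸ Finset.mem_univ a) haI⟩
    · have h0 := hI i hi 0
      have h1 := hI i hi 1
      rw [hU0, Submodule.mem_bot] at h0
      rw [hU1, Submodule.mem_bot] at h1
      rw [h0, h1, zero_smul, zero_smul, add_zero]
      exact zero_mem _
    · rw [QWt, hU0, hU1, finrank_bot, finrank_bot, hI']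
      push_cast
      ring
    · fin_cases j
      · exact hU0
      · exact hU1
  · refine ⟨K ∙ s b, insert b I', fun i hi => ?_, ?_, fun h => absurd (Submodule.span_singleton_eq_bot.1 h) hsb,
      fun hJ => absurd (hJ ▸ Finset.mem_univ a) (by simp [hab, haI])⟩
    · rcases Finset.mem_insert.1 hi with rfl | hi
      · exact Submodule.mem_span_singleton_self _
      · refine hmem (fun i hi => ?_) i hi
        have h0 := hI i hi 0
        rw [hU0, Submodule.mem_bot] at h0
        rw [h0, zero_smul, zero_add]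
        exact Submodule.smul_mem _ _ (Submodule.mem_span_singleton_self _)
    · rw [QWt, hU0, hU1, finrank_bot, finrank_span_singleton hsb, finrank_top, Module.finrank_self,
        Finset.sum_insert hbI, hI']
      push_cast
      ring
  · refine ⟨K ∙ s a, insert a I', fun i hi => ?_, ?_, fun h => absurd (Submodule.span_singleton_eq_bot.1 h) hsa,
      fun hJ => absurd (hJ ▸ Finset.mem_univ b) (by simp [hab.symm, hbI])⟩
    · rcases Finset.mem_insert.1 hi with rfl | hi
      · exact Submodule.mem_span_singleton_self _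
      · refine hmem (fun i hi => ?_) i hi
        have h1 := hI i hi 1
        rw [hU1, Submodule.mem_bot] at h1
        rw [h1, zero_smul, add_zero]
        exact Submodule.smul_mem _ _ (Submodule.mem_span_singleton_self _)
    · rw [QWt, hU0, hU1, finrank_bot, finrank_span_singleton hsa, finrank_top, Module.finrank_self,
        Finset.sum_insert haI, hI']
      push_cast
      ring
  · refine ⟨⊤, insert a (insert b I'), fun _ _ => Submodule.mem_top, ?_, fun _ h => absurd h (Finset.insert_ne_empty _ _),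
      fun hJ => ⟨funext fun j => ?_, huniv subset_rfl hJ⟩⟩
    · rw [QWt, hU0, hU1, finrank_top_two, finrank_top, Module.finrank_self,
        Finset.sum_insert (by simp [hab, haI]), Finset.sum_insert hbI, hI']
      push_cast
      ring
    · fin_cases j
      · exact hU0
      · exact hU1

theorem pwt_eq (c : ℚ) (U : Fin 2 → Submodule K K) (I : Finset (Away a b)) :
    PWt K ![c * (θ a - 1), c * (θ b - 1)] (fun i : Away a b => c * θ i.1) U I =
      c * ((θ a - 1) * (Module.finrank K (U 0) : ℚ) + (θ b - 1) * (Module.finrank K (U 1) : ℚ) + ∑ i ∈ I, θ i.1) := by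
  rw [PWt, Fin.sum_univ_two, ← Finset.mul_sum]
  simp only [Matrix.cons_val_zero, Matrix.cons_val_one, Matrix.cons_val_fin_one]
  ring

theorem sum_away (hab : a ≠ b) : ∑ i : Away a b, θ i.1 = ∑ i, θ i - θ a - θ b := by
  have h1 : ∑ i : Away a b, θ i.1 = ∑ i ∈ (Finset.univ.erase a).erase b, θ i :=
    (Finset.sum_subtype _ (fun i => by simp [and_comm]) θ).symm
  rw [h1, Finset.sum_erase_eq_sub (by simp [hab.symm]), Finset.sum_erase_eq_sub (Finset.mem_univ a)]

/-- From `Q` to `P`. -/
theorem p_of_q (hab : a ≠ b) (h2 : ∑ i, θ i = 2) (hθ' : θ a + θ b < 2)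
    (hli : LinearIndependent K ![s a, s b]) (hQ : QSemistable (-1) θ s)
    (t : Away a b → (Fin 2 → K)) (ht : ∀ i : Away a b, s i.1 = t i 0 • s a + t i 1 • s b) :
    PSemistable ![(2 - θ a - θ b)⁻¹ * (θ a - 1), (2 - θ a - θ b)⁻¹ * (θ b - 1)]
      (fun i : Away a b => (2 - θ a - θ b)⁻¹ * θ i.1) t := by
  have hc : 0 < 2 - θ a - θ b := by linarith
  refine ⟨?_, fun U I hI => ?_⟩
  · rw [Fin.sum_univ_two, ← Finset.mul_sum, sum_away hab, h2]
    simp only [Matrix.cons_val_zero, Matrix.cons_val_one, Matrix.cons_val_fin_one]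
    ring
  · rw [pwt_eq]
    obtain ⟨L, J, hJ, hwt, -⟩ := exists_sub (θ := θ) hab hli t ht U I hI
    exact mul_nonpos_of_nonneg_of_nonpos (inv_pos.2 hc).le (hwt ▸ hQ.2 L J hJ)

/-- The shape of a subrepresentation of `Q`. -/
theorem exists_psub (hab : a ≠ b) (h0 : ∀ i, 0 ≤ θ i) (h2 : ∑ i, θ i = 2) (hθ : 1 < θ a + θ b)
    (hli : LinearIndependent K ![s a, s b])
    (t : Away a b → (Fin 2 → K)) (ht : ∀ i : Away a b, s i.1 = t i 0 • s a + t i 1 • s b)
    (L : Submodule K (Fin 2 → K)) (J : Finset κ) (hJ : QSubrep s L J) :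
    (L = ⊤ ∧ QWt K (-1) θ L J = ∑ i ∈ J, θ i - 2) ∨ QWt K (-1) θ L J < 0 ∨
      ∃ (U : Fin 2 → Submodule K K) (I : Finset (Away a b)), PSubrep t U I ∧
        QWt K (-1) θ L J ≤ (θ a - 1) * (Module.finrank K (U 0) : ℚ) + (θ b - 1) * (Module.finrank K (U 1) : ℚ) +
          ∑ i ∈ I, θ i.1 ∧ U ≠ ⊤ ∧ (U = ⊥ → I = ∅ → L = ⊥ ∧ J = ∅) := by
  classical
  let I : Finset (Away a b) := J.subtype _
  have hIJ : ∑ i ∈ I, θ i.1 = ∑ i ∈ J.filter (fun i => i ≠ a ∧ i ≠ b), θ i := Finset.sum_subtype_eq_sum_filter θ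
  have hcoord : ∀ i ∈ I, t i 0 • s a + t i 1 • s b ∈ L := fun i hi => by
    rw [← ht]
    exact hJ _ (Finset.mem_subtype.1 hi)
  have hle := finrank_le_two L
  by_cases hn : Module.finrank K L = 2
  · left
    refine ⟨eq_top_of_two L hn, ?_⟩
    rw [QWt, hn]
    push_cast
    ring
  right
  have hnot : ¬ (s a ∈ L ∧ s b ∈ L) := fun ⟨ha, hb⟩ => hn (le_antisymm hle (by
    have hle' : Submodule.span K (Set.range ![s a, s b]) ≤ L := Submodule.span_le.2 (by
      rintro _ ⟨j, rfl⟩
      fin_cases j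
      · exact ha
      · exact hb)
    have h3 := Submodule.finrank_mono hle'
    rw [finrank_span_eq_card hli, Fintype.card_fin] at h3
    exact h3))
  by_cases ha : s a ∈ L
  · right
    have hb : s b ∉ L := fun hb => hnot ⟨ha, hb⟩
    have hsa : s a ≠ 0 := by simpa using hli.ne_zero 0
    have hn1 : Module.finrank K L = 1 := by
      have h3 : 1 ≤ Module.finrank K L := by
        by_contra h3
        exact hsa (by simpa [Submodule.finrank_eq_zero.1 (by omega : Module.finrank K L = 0)] using ha)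
      omega
    have hL := eq_span_of_one L hn1 _ ha hsa
    refine ⟨![⊤, ⊥], I, fun i hi j => ?_, ?_, fun h => ?_, fun h => ?_⟩
    · fin_cases j
      · exact Submodule.mem_top
      · change t i 1 ∈ (⊥ : Submodule K K)
        rw [Submodule.mem_bot]
        have h3 := hcoord i hi
        rw [hL, Submodule.mem_span_singleton] at h3
        obtain ⟨c, hc⟩ := h3
        exact ((LinearIndependent.pair_iff.1 hli) (t i 0 - c) (t i 1) (by
          rw [sub_smul, hc, sub_add_eq_add_sub, sub_self])).2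
    · have hsub : ∑ i ∈ J, θ i ≤ θ a + ∑ i ∈ J.filter (fun i => i ≠ a ∧ i ≠ b), θ i := by
        rw [← Finset.sum_insert (f := θ) (a := a) (by simp)]
        refine Finset.sum_le_sum_of_subset_of_nonneg (fun i hi => ?_) fun i _ _ => h0 i
        by_cases hia : i = a
        · exact hia ▸ Finset.mem_insert_self _ _
        · exact Finset.mem_insert_of_mem (Finset.mem_filter.2 ⟨hi, hia, fun hib => hb (hib ▸ hJ i hi)⟩)
      have f0 : Module.finrank K ↥((![⊤, ⊥] : Fin 2 → Submodule K K) 0) = 1 := (finrank_top K K).trans (Module.finrank_self K)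
      have f1 : Module.finrank K ↥((![⊤, ⊥] : Fin 2 → Submodule K K) 1) = 0 := finrank_bot K K
      rw [QWt, hn1, hIJ, f0, f1]
      push_cast
      linarith
    · exact bot_ne_top (congrFun h 1)
    · exact absurd (congrFun h 0) top_ne_bot
  by_cases hb : s b ∈ L
  · right
    have hsb : s b ≠ 0 := by simpa using hli.ne_zero 1
    have hn1 : Module.finrank K L = 1 := by
      have h3 : 1 ≤ Module.finrank K L := by
        by_contra h3
        exact hsb (by simpa [Submodule.finrank_eq_zero.1 (by omega : Module.finrank K L = 0)] using hb)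
      omega
    have hL := eq_span_of_one L hn1 _ hb hsb
    refine ⟨![⊥, ⊤], I, fun i hi j => ?_, ?_, fun h => ?_, fun h => ?_⟩
    · fin_cases j
      · change t i 0 ∈ (⊥ : Submodule K K)
        rw [Submodule.mem_bot]
        have h3 := hcoord i hi
        rw [hL, Submodule.mem_span_singleton] at h3
        obtain ⟨c, hc⟩ := h3
        exact ((LinearIndependent.pair_iff.1 hli) (t i 0) (t i 1 - c) (by
          rw [sub_smul, hc, ← add_sub_assoc, sub_self])).1
      · exact Submodule.mem_top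
    · have hsub : ∑ i ∈ J, θ i ≤ θ b + ∑ i ∈ J.filter (fun i => i ≠ a ∧ i ≠ b), θ i := by
        rw [← Finset.sum_insert (f := θ) (a := b) (by simp)]
        refine Finset.sum_le_sum_of_subset_of_nonneg (fun i hi => ?_) fun i _ _ => h0 i
        by_cases hib : i = b
        · exact hib ▸ Finset.mem_insert_self _ _
        · exact Finset.mem_insert_of_mem (Finset.mem_filter.2 ⟨hi, fun hia => ha (hia ▸ hJ i hi), hib⟩)
      have f0 : Module.finrank K ↥((![⊥, ⊤] : Fin 2 → Submodule K K) 0) = 0 := finrank_bot K K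
      have f1 : Module.finrank K ↥((![⊥, ⊤] : Fin 2 → Submodule K K) 1) = 1 := (finrank_top K K).trans (Module.finrank_self K)
      rw [QWt, hn1, hIJ, f0, f1]
      push_cast
      linarith
    · exact bot_ne_top (congrFun h 0)
    · exact absurd (congrFun h 1) top_ne_bot
  have hJf : J.filter (fun i => i ≠ a ∧ i ≠ b) = J :=
    Finset.filter_true_of_mem fun i hi => ⟨fun e => ha (e ▸ hJ i hi), fun e => hb (e ▸ hJ i hi)⟩
  rcases Nat.eq_zero_or_pos (Module.finrank K L) with hn0 | hn0
  · right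
    have hbot : L = ⊥ := Submodule.finrank_eq_zero.1 hn0
    refine ⟨⊥, I, fun i hi j => ?_, ?_, bot_ne_top, fun _ hI => ⟨hbot, ?_⟩⟩
    · change t i j ∈ (⊥ : Submodule K K)
      rw [Submodule.mem_bot]
      have h3 := hcoord i hi
      rw [hbot, Submodule.mem_bot] at h3
      have h4 := (LinearIndependent.pair_iff.1 hli) _ _ h3
      fin_cases j
      · exact h4.1
      · exact h4.2
    · rw [QWt, hn0, hIJ, hJf]
      simp only [Pi.bot_apply, finrank_bot]
      push_cast
      linarith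
    · rw [← hJf, Finset.filter_eq_empty_iff]
      intro i hi h
      exact Finset.notMem_empty (⟨i, h⟩ : Away a b) (hI ▸ Finset.mem_subtype.2 hi)
  · left
    have h3 : ∑ i ∈ J, θ i ≤ ∑ i, θ i - θ a - θ b := by
      rw [← sum_away hab, ← hJf, ← hIJ]
      exact Finset.sum_le_univ_sum_of_nonneg fun i => h0 i.1
    rw [QWt, show Module.finrank K L = 1 by omega]
    push_cast
    linarith

theorem qSemistable_iff_slice (hab : a ≠ b) (h0 : ∀ i, 0 ≤ θ i) (h2 : ∑ i, θ i = 2)
    (hθ : 1 < θ a + θ b) (hθ' : θ a + θ b < 2) :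
    QSemistable (-1) θ s ↔ (LinearIndependent K ![s a, s b] ∧
      ∀ t : Away a b → (Fin 2 → K), (∀ i : Away a b, s i.1 = t i 0 • s a + t i 1 • s b) →
        PSemistable ![(2 - θ a - θ b)⁻¹ * (θ a - 1), (2 - θ a - θ b)⁻¹ * (θ b - 1)]
          (fun i : Away a b => (2 - θ a - θ b)⁻¹ * θ i.1) t) := by
  refine ⟨fun h => ⟨indep_of_semistable hθ hab h, p_of_q hab h2 hθ' (indep_of_semistable hθ hab h) h⟩,
    fun ⟨hli, h⟩ => ?_⟩
  have hc : 0 < 2 - θ a - θ b := by linarith
  have htop : Submodule.span K (Set.range ![s a, s b]) = ⊤ := hli.span_eq_top_of_card_eq_finrank (by simp)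
  have hco : ∀ i : Away a b, ∃ t : Fin 2 → K, s i.1 = t 0 • s a + t 1 • s b := fun i => by
    obtain ⟨c, hc⟩ := (Submodule.mem_span_range_iff_exists_fun K).1 (htop.ge (Submodule.mem_top (x := s i.1)))
    exact ⟨c, by rw [← hc, Fin.sum_univ_two]; rfl⟩
  choose t ht using hco
  refine ⟨by rw [h2]; norm_num, fun L J hJ => ?_⟩
  rcases exists_psub hab h0 h2 hθ hli t ht L J hJ with ⟨-, hwt⟩ | hwt | ⟨U, I, hI, hwt, -⟩
  · rw [hwt]
    have : ∑ i ∈ J, θ i ≤ ∑ i, θ i := Finset.sum_le_univ_sum_of_nonneg h0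
    linarith
  · exact hwt.le
  · have h3 := (h t ht).2 U I hI
    rw [pwt_eq] at h3
    exact hwt.trans (le_of_mul_le_mul_left (h3.trans_eq (mul_zero _).symm) (inv_pos.2 hc))

theorem qStable_iff_slice (hab : a ≠ b) (h0 : ∀ i, 0 ≤ θ i) (h1 : ∀ i, θ i ≤ 1) (h2 : ∑ i, θ i = 2)
    (hθ : 1 < θ a + θ b) (hθ' : θ a + θ b < 2) :
    QStable (-1) θ s ↔ (LinearIndependent K ![s a, s b] ∧
      ∀ t : Away a b → (Fin 2 → K), (∀ i : Away a b, s i.1 = t i 0 • s a + t i 1 • s b) →
        PStable ![(2 - θ a - θ b)⁻¹ * (θ a - 1), (2 - θ a - θ b)⁻¹ * (θ b - 1)]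
          (fun i : Away a b => (2 - θ a - θ b)⁻¹ * θ i.1) t) := by
  have hc : 0 < 2 - θ a - θ b := by linarith
  refine ⟨fun h => ?_, fun ⟨hli, h⟩ => ?_⟩
  · have hli := indep_of_semistable hθ hab h.1
    refine ⟨hli, fun t ht => ⟨p_of_q hab h2 hθ' hli h.1 t ht, fun U I hI hwt => ?_⟩⟩
    rw [pwt_eq, mul_eq_zero] at hwt
    replace hwt := hwt.resolve_left (inv_pos.2 hc).ne'
    obtain ⟨L, J, hJ, hJwt, hbot, htop⟩ := exists_sub (θ := θ) hab hli t ht U I hI
    rcases h.2 L J hJ (hJwt.trans hwt) with ⟨h3, h4⟩ | ⟨-, h4⟩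
    · exact Or.inl (hbot h3 h4)
    · exact Or.inr (htop h4)
  · have htop : Submodule.span K (Set.range ![s a, s b]) = ⊤ := hli.span_eq_top_of_card_eq_finrank (by simp)
    have hco : ∀ i : Away a b, ∃ t : Fin 2 → K, s i.1 = t 0 • s a + t 1 • s b := fun i => by
      obtain ⟨c, hc⟩ := (Submodule.mem_span_range_iff_exists_fun K).1 (htop.ge (Submodule.mem_top (x := s i.1)))
      exact ⟨c, by rw [← hc, Fin.sum_univ_two]; rfl⟩
    choose t ht using hco
    refine ⟨(qSemistable_iff_slice hab h0 h2 hθ hθ').2 ⟨hli, fun t ht => (h t ht).1⟩, fun L J hJ hQ => ?_⟩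
    rcases exists_psub hab h0 h2 hθ hli t ht L J hJ with ⟨hL, hwt⟩ | hwt | ⟨U, I, hI, hwt, hU, hbot⟩
    · refine Or.inr ⟨hL, Finset.eq_univ_of_forall fun i => ?_⟩
      by_contra hi
      have hi0 : θ i = 0 := by
        have h3 : ∑ j ∈ J, θ j + θ i ≤ ∑ j, θ j := by
          rw [add_comm, ← Finset.sum_insert hi]
          exact Finset.sum_le_univ_sum_of_nonneg h0
        have := h0 i
        linarith
      by_cases hia : i = a
      · subst hia
        have := h1 b
        linarith
      by_cases hib : i = b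
      · subst hib
        have := h1 a
        linarith
      have hzero : PWt K ![(2 - θ a - θ b)⁻¹ * (θ a - 1), (2 - θ a - θ b)⁻¹ * (θ b - 1)]
          (fun j : Away a b => (2 - θ a - θ b)⁻¹ * θ j.1) ⊤ (Finset.univ.erase ⟨i, hia, hib⟩) = 0 := by
        rw [pwt_eq, Finset.sum_erase (f := fun j : Away a b => θ j.1) _ hi0, sum_away hab, h2]
        simp only [Pi.top_apply, finrank_top, Module.finrank_self]
        push_cast
        ring
      rcases (h t ht).2 ⊤ _ (fun _ _ _ => Submodule.mem_top) hzero with h' | h'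
      · exact top_ne_bot h'.1
      · exact Finset.notMem_erase _ _ (h'.2.symm ▸ Finset.mem_univ (⟨i, hia, hib⟩ : Away a b))
    · exact absurd hQ hwt.ne
    · have h3 := (h t ht).1.2 U I hI
      have hzero : PWt K ![(2 - θ a - θ b)⁻¹ * (θ a - 1), (2 - θ a - θ b)⁻¹ * (θ b - 1)]
          (fun j : Away a b => (2 - θ a - θ b)⁻¹ * θ j.1) U I = 0 := by
        rw [pwt_eq] at h3 ⊢
        have h4 := le_of_mul_le_mul_left (h3.trans_eq (mul_zero _).symm) (inv_pos.2 hc)
        rw [le_antisymm h4 (hQ ▸ hwt), mul_zero]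
      rcases (h t ht).2 U I hI hzero with h' | h'
      · exact Or.inl (hbot h'.1 h'.2)
      · exact absurd h'.1 hU

end Slice

end Groth.Agent.PtQuivLib
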